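import Mathlib.Data.Nat.Choose.Factorization
import Mathlib.Data.Nat.Prime.Factorial
import Mathlib.Data.Nat.Choose.Lucas
import Mathlib.Data.Nat.Choose.Central
import Mathlib.NumberTheory.PrimeCounting
import Mathlib.Tactic

/-!
A binomial coefficient `C(n, k)`, `2k ≤ n`, has a prime divisor that exceeds `k` or `√n`; its largest prime divisor
`r` then satisfies `n % r < k % r`.
-/

set_option autoImplicit false
set_option linter.style.haveILetI false

namespace CfsgLib.AltDerange

open Finset

theorem choose_le_pow {n k : ℕ} (hkn : k ≤ n) (hn : 0 < n) (s : Finset ℕ)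
    (hs : ∀ p, p.Prime → p ∣ n.choose k → p ∈ s) : n.choose k ≤ n ^ s.card := by
  have h0 := (Nat.choose_pos hkn).ne'
  calc n.choose k = ∏ p ∈ (n.choose k).primeFactors, p ^ (n.choose k).factorization p := by
        conv_lhs => rw [← Nat.prod_factorization_pow_eq_self h0]
        rfl
    _ ≤ n ^ (n.choose k).primeFactors.card :=
        Finset.prod_le_pow_card _ _ _ fun p _ => Nat.pow_factorization_choose_le hn
    _ ≤ n ^ s.card := Nat.pow_le_pow_right hn (Finset.card_le_card fun p hp =>
        hs p (Nat.prime_of_mem_primeFactors hp) (Nat.dvd_of_mem_primeFactors hp))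

theorem pow_lt_choose_mul {n : ℕ} : ∀ s, 2 ≤ s → s < n → n ^ s < n.choose s * s ^ s := by
  intro s hs hsn
  have key : ∀ j, 2 ≤ j → j ≤ s → n ^ j * s.descFactorial j < n.descFactorial j * s ^ j := by
    intro j hj
    induction j, hj using Nat.le_induction with
    | base =>
      intro _
      have e : ∀ m : ℕ, m.descFactorial 2 = (m - 1) * m := fun m => by
        simp [Nat.descFactorial_succ]
      rw [e, e]
      have h1 : n * (s - 1) < (n - 1) * s := by
        zify [show 1 ≤ s by omega, show 1 ≤ n by omega]; nlinarith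
      calc n ^ 2 * ((s - 1) * s) = n * (s - 1) * (n * s) := by ring
        _ < (n - 1) * s * (n * s) := Nat.mul_lt_mul_of_pos_right h1 (Nat.mul_pos (by omega) (by omega))
        _ = (n - 1) * n * s ^ 2 := by ring
    | succ j hj ih =>
      intro hjs
      rw [Nat.descFactorial_succ, Nat.descFactorial_succ, pow_succ, pow_succ]
      have h1 : n * (s - j) ≤ (n - j) * s := by
        zify [show j ≤ s by omega, show j ≤ n by omega]; nlinarith
      have h2 : 0 < s - j := by omega
      have h3 := ih (by omega)
      calc n ^ j * n * ((s - j) * s.descFactorial j) = n ^ j * s.descFactorial j * (n * (s - j)) := by ring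
        _ < n.descFactorial j * s ^ j * (n * (s - j)) :=
            Nat.mul_lt_mul_of_pos_right h3 (Nat.mul_pos (by omega) h2)
        _ ≤ n.descFactorial j * s ^ j * ((n - j) * s) := Nat.mul_le_mul_left _ h1
        _ = (n - j) * n.descFactorial j * (s ^ j * s) := by ring
  have h := key s hs le_rfl
  rw [Nat.descFactorial_self, Nat.descFactorial_eq_factorial_mul_choose] at h
  have h' : s.factorial * n ^ s < s.factorial * (n.choose s * s ^ s) := by linarith
  exact Nat.lt_of_mul_lt_mul_left h'

theorem primes_le_half : ∀ s, 8 ≤ s → 2 * ((range (s + 1)).filter Nat.Prime).card ≤ s := by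
  intro s
  induction s using Nat.strong_induction_on with
  | _ s ih =>
    intro hs
    rcases Nat.lt_or_ge s 10 with h | h
    · interval_cases s <;> decide
    have h2 := ih (s - 2) (by omega) (by omega)
    have hsub : (range (s + 1)).filter Nat.Prime ⊆
        insert (if Even s then s - 1 else s) ((range (s - 2 + 1)).filter Nat.Prime) := by
      intro p hp
      rw [mem_filter, mem_range] at hp
      rw [mem_insert, mem_filter, mem_range]
      by_cases hps : p < s - 2 + 1
      · exact Or.inr ⟨hps, hp.2⟩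
      · left
        have hodd := hp.2.odd_of_ne_two (by omega)
        rw [Nat.odd_iff] at hodd
        split_ifs with he
        · rw [Nat.even_iff] at he; omega
        · rw [Nat.not_even_iff] at he; omega
    have := (card_le_card hsub).trans (card_insert_le _ _)
    omega

theorem small_witness : ∀ n, n < 94 → ∀ k, k < n / 2 + 1 → 1 ≤ k →
    ∃ p ∈ [2, 3, 5, 7, 11, 13, 17, 19, 23, 29, 31, 37, 41, 43, 47, 53, 59, 61, 67, 71, 73, 79, 83, 89],
      (k < p ∨ n < p * p) ∧ n % p < k % p := by
  decide +kernel

theorem dvd_choose_of_mod_lt {p n k : ℕ} (hp : p.Prime) (h : n % p < k % p) : p ∣ n.choose k := by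
  haveI := Fact.mk hp
  have hm := Choose.choose_modEq_choose_mod_mul_choose_div_nat (p := p) (n := n) (k := k)
  rw [Nat.choose_eq_zero_of_lt h, zero_mul] at hm
  exact Nat.modEq_zero_iff_dvd.1 hm

/-- A binomial coefficient has a large prime divisor. -/
theorem exists_big_prime {n k : ℕ} (hk : 1 ≤ k) (hkn : 2 * k ≤ n) :
    ∃ p, p.Prime ∧ p ∣ n.choose k ∧ (k < p ∨ n < p * p) := by
  by_cases hn : n < 94
  · obtain ⟨p, hp, h1, h2⟩ := small_witness n hn k (by omega) hk
    have hp' : p.Prime := by fin_cases hp <;> norm_num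
    exact ⟨p, hp', dvd_choose_of_mod_lt hp' h2, h1⟩
  by_contra hcon
  push Not at hcon
  set s := min k (Nat.sqrt n) with hs
  have hs1 : 1 ≤ s := le_min hk (Nat.sqrt_pos.2 (by omega))
  have hsn : s * s ≤ n := (Nat.mul_le_mul (min_le_right _ _) (min_le_right _ _)).trans (Nat.sqrt_le n)
  have hC : n.choose k ≤ n ^ ((range (s + 1)).filter Nat.Prime).card := by
    refine choose_le_pow (by omega) (by omega) _ fun p hp hd => ?_
    obtain ⟨h1, h2⟩ := hcon p hp hd
    rw [mem_filter, mem_range, Nat.lt_succ_iff, hs, le_min_iff]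
    exact ⟨⟨h1, Nat.le_sqrt.2 h2⟩, hp⟩
  have hmono : n.choose s ≤ n.choose k := by
    have hsk : s ≤ k := min_le_left _ _
    clear_value s
    clear hC hcon hsn hs
    induction k, hsk using Nat.le_induction with
    | base => exact le_rfl
    | succ j hj ih => exact (ih (by omega) (by omega)).trans (Nat.choose_le_succ_of_lt_half_left (by omega))
  rcases (show s = 1 ∨ 2 ≤ s by omega) with h | h
  · rw [h] at hC hmono
    rw [show ((range (1 + 1)).filter Nat.Prime).card = 0 by decide, pow_zero] at hC
    rw [Nat.choose_one_right] at hmono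
    omega
  have hlt := pow_lt_choose_mul (n := n) s h (by nlinarith)
  have hle : n.choose s ≤ n ^ ((range (s + 1)).filter Nat.Prime).card := hmono.trans hC
  generalize hπ : ((range (s + 1)).filter Nat.Prime).card = π at hle
  have hpow : s ^ (2 * s) ≤ n ^ s := by
    rw [pow_mul]
    exact Nat.pow_le_pow_left (by rw [pow_two]; exact hsn) s
  have hmain : n ^ (2 * s) < n ^ (2 * π) * s ^ (2 * s) := by
    calc n ^ (2 * s) = (n ^ s) ^ 2 := by ring
      _ < (n.choose s * s ^ s) ^ 2 := Nat.pow_lt_pow_left hlt two_ne_zero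
      _ ≤ (n ^ π * s ^ s) ^ 2 := Nat.pow_le_pow_left (Nat.mul_le_mul_right _ hle) 2
      _ = n ^ (2 * π) * s ^ (2 * s) := by ring
  by_cases hhalf : 2 * π ≤ s
  · have : n ^ (2 * π) * s ^ (2 * s) ≤ n ^ (2 * s) :=
      calc n ^ (2 * π) * s ^ (2 * s) ≤ n ^ s * n ^ s := Nat.mul_le_mul (Nat.pow_le_pow_right (by omega) hhalf) hpow
        _ = n ^ (2 * s) := by ring
    omega
  have hs8 : s < 8 := by
    by_contra h8
    exact hhalf (hπ ▸ primes_le_half s (not_lt.1 h8))
  push Not at hn
  interval_cases s
  all_goals first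
    | (rw [show π = 1 from hπ ▸ (by decide)] at hhalf; omega)
    | (rw [show π = 2 from hπ ▸ (by decide)] at hmain hhalf
       first
         | omega
         | (have h2 : n ^ 2 < 3 ^ 6 := by
              refine Nat.lt_of_mul_lt_mul_left (a := n ^ 4) ?_
              calc n ^ 4 * n ^ 2 = n ^ (2 * 3) := by ring
                _ < _ := hmain
                _ = n ^ 4 * 3 ^ 6 := by ring
            nlinarith))
    | (rw [show π = 3 from hπ ▸ (by decide)] at hmain hhalf
       first
         | omega
         | (have h2 : n ^ 4 < 5 ^ 10 := by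
              refine Nat.lt_of_mul_lt_mul_left (a := n ^ 6) ?_
              calc n ^ 6 * n ^ 4 = n ^ (2 * 5) := by ring
                _ < _ := hmain
                _ = n ^ 6 * 5 ^ 10 := by ring
            have := Nat.pow_le_pow_left hn 4
            omega))
    | (rw [show π = 4 from hπ ▸ (by decide)] at hmain hhalf
       have h2 : n ^ 6 < 7 ^ 14 := by
         refine Nat.lt_of_mul_lt_mul_left (a := n ^ 8) ?_
         calc n ^ 8 * n ^ 6 = n ^ (2 * 7) := by ring
           _ < _ := hmain
           _ = n ^ 8 * 7 ^ 14 := by ring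
       have := Nat.pow_le_pow_left hn 6
       omega)

theorem not_dvd_choose_of_lt {r a b : ℕ} (hr : r.Prime) (ha : a < r) (hb : b ≤ a) : ¬ r ∣ a.choose b := fun h =>
  absurd ((Nat.Prime.dvd_factorial hr).1 (h.trans (Nat.choose_mul_factorial_mul_factorial hb ▸
    dvd_mul_of_dvd_left (dvd_mul_right _ _) _))) (not_le.2 ha)

/-- For the largest prime divisor there is a carry in the last digit. -/
theorem mod_lt_of_max {n k r : ℕ} (hk : 1 ≤ k) (hkn : 2 * k ≤ n) (hr : r.Prime) (hd : r ∣ n.choose k)
    (hmax : ∀ p, p.Prime → p ∣ n.choose k → p ≤ r) : n % r < k % r := by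
  haveI := Fact.mk hr
  obtain ⟨p, hp, hpd, hbig⟩ := exists_big_prime hk hkn
  have hpr := hmax p hp hpd
  by_contra hcon
  push Not at hcon
  have hm := Choose.choose_modEq_choose_mod_mul_choose_div_nat (p := r) (n := n) (k := k)
  have h0 : r ∣ (n % r).choose (k % r) * (n / r).choose (k / r) :=
    Nat.modEq_zero_iff_dvd.1 (hm.symm.trans (Nat.modEq_zero_iff_dvd.2 hd))
  rcases hr.dvd_mul.1 h0 with h | h
  · exact not_dvd_choose_of_lt hr (Nat.mod_lt _ hr.pos) hcon h
  rcases hbig with hb | hb
  · rw [Nat.div_eq_of_lt (by omega : k < r), Nat.choose_zero_right] at h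
    exact hr.ne_one (Nat.dvd_one.1 h)
  · exact not_dvd_choose_of_lt hr (Nat.div_lt_of_lt_mul (hb.trans_le (Nat.mul_le_mul hpr hpr)))
      (Nat.div_le_div_right (by omega)) h

theorem choose_two_pow {n k : ℕ} (hk : 1 ≤ k) (hkn : 2 * k ≤ n) (h5 : 5 ≤ n)
    (h : ∀ p, p.Prime → p ∣ n.choose k → p ≤ 2) : k = 1 ∧ 4 ∣ n := by
  obtain ⟨p, hp, hpd, hbig⟩ := exists_big_prime hk hkn
  have := h p hp hpd
  have := hp.two_le
  obtain rfl : p = 2 := by omega
  obtain rfl : k = 1 := by omega
  refine ⟨rfl, ?_⟩
  rw [Nat.choose_one_right] at h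
  have hn : n = 2 ^ n.factorization 2 := Nat.eq_pow_of_factorization_eq_single (by omega) <| Finsupp.ext fun q => by
    rcases eq_or_ne q 2 with rfl | hq
    · simp
    · rw [Finsupp.single_eq_of_ne hq]
      by_contra h0
      have hq' := Nat.prime_of_mem_primeFactors (Nat.support_factorization n ▸ Finsupp.mem_support_iff.2 h0)
      have := h q hq' (Nat.dvd_of_factorization_pos h0)
      have := hq'.two_le
      omega
  rw [hn] at h5 ⊢
  generalize n.factorization 2 = j at h5 ⊢
  match j, h5 with
  | 0, h5 => simp at h5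
  | 1, h5 => simp at h5
  | j + 2, _ => exact ⟨2 ^ j, by ring⟩

end CfsgLib.AltDerange
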