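import Cfsg.Agent.AltDerange.Perm
import Cfsg.Agent.AutAlt.OddPart
import Mathlib.GroupTheory.GroupAction.Primitive

/-!
A primitive almost simple group with alternating socle has a derangement of the largest prime order dividing the
degree.
-/

set_option autoImplicit false
set_option linter.style.haveILetI false

namespace CfsgLib.AltDerange

open Equiv MulAction

theorem main {G Ω : Type*} [Group G] [Finite G] [MulAction G Ω] [FaithfulSMul G Ω] [Finite Ω]
    (T : Subgroup G) (hT : T.Normal) (hTc : Subgroup.centralizer (T : Set G) = ⊥) (m : ℕ) (hm : 5 ≤ m)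
    (eT : ↥T ≃* ↥(alternatingGroup (Fin m))) (hprim : MulAction.IsPreprimitive G Ω) (hΩ : 2 ≤ Nat.card Ω)
    (r : ℕ) (hr : r.Prime) (hrd : r ∣ Nat.card Ω) (hmax : ∀ s : ℕ, s.Prime → s ∣ Nat.card Ω → s ≤ r) :
    ∃ g : G, orderOf g = r ∧ ∀ ω : Ω, g • ω ≠ ω := by
  classical
  haveI := hT
  haveI : Nontrivial Ω := Finite.one_lt_card_iff_nontrivial.1 hΩ
  haveI : Nontrivial (Fin m) := Fin.nontrivial_iff_two_le.2 (by omega)
  obtain ⟨α⟩ : Nonempty Ω := inferInstance
  haveI htrT : IsPretransitive T Ω := by
    haveI := hprim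
    refine MulAction.IsQuasiPreprimitive.isPretransitive_of_normal fun hfix => ?_
    have hbot : T = ⊥ := (Subgroup.eq_bot_iff_forall _).2 fun t ht => FaithfulSMul.eq_of_smul_eq_smul fun ω => by
      have h : ω ∈ fixedPoints T Ω := by rw [hfix]; trivial
      rw [one_smul]
      exact h ⟨t, ht⟩
    haveI : Subsingleton T := by rw [hbot]; infer_instance
    have h1 : Nat.card (alternatingGroup (Fin m)) = 1 := by
      rw [← Nat.card_congr eT.toEquiv]
      exact Nat.card_eq_one_iff_unique.2 ⟨inferInstance, ⟨1⟩⟩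
    have h2 := two_mul_card_alternatingGroup (α := Fin m)
    rw [← Nat.card_eq_fintype_card, h1, Fintype.card_perm, Fintype.card_fin] at h2
    have h3 := Nat.factorial_le hm
    norm_num [Nat.factorial] at h3
    omega
  let H := stabilizer G α
  have hN : H.relIndex T = Nat.card Ω := by
    rw [← MulAction.index_stabilizer_of_transitive T α]
    rfl
  -- it is enough to avoid the conjugates of the stabiliser
  have finish : ∀ Hbar : Subgroup (Perm (Fin m)), (∀ t : T, (t : G) ∈ H → (eT t : Perm (Fin m)) ∈ Hbar) →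
      (∃ σ ∈ alternatingGroup (Fin m), orderOf σ = r ∧ ∀ τ ∈ alternatingGroup (Fin m), τ * σ * τ⁻¹ ∉ Hbar) →
      ∃ g : G, orderOf g = r ∧ ∀ ω : Ω, g • ω ≠ ω := by
    rintro Hbar hbar ⟨σ, hσA, ho, hσ⟩
    refine ⟨((eT.symm ⟨σ, hσA⟩ : T) : G), ?_, fun ω hω => ?_⟩
    · rw [Subgroup.orderOf_coe, MulEquiv.orderOf_eq, ← Subgroup.orderOf_coe]
      exact ho
    obtain ⟨u, rfl⟩ := htrT.exists_smul_eq α ω
    have hmem : ((u⁻¹ * eT.symm ⟨σ, hσA⟩ * u : T) : G) ∈ H := by
      show ((u : G)⁻¹ * (eT.symm ⟨σ, hσA⟩ : T) * (u : G)) • α = α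
      rw [mul_smul, mul_smul]
      exact inv_smul_eq_iff.2 hω
    have h := hbar _ hmem
    rw [map_mul, map_mul, map_inv, MulEquiv.apply_symm_apply] at h
    have h' := hσ ((eT u : alternatingGroup (Fin m)) : Perm (Fin m))⁻¹ (inv_mem (eT u).2)
    rw [inv_inv] at h'
    exact h' (by simpa using h)
  by_cases h6 : m = 6
  · subst h6
    let j : T →* Perm (Fin 6) := (alternatingGroup (Fin 6)).subtype.comp eT.toMonoidHom
    have hj : Function.Injective j := Subtype.val_injective.comp eT.injective
    have hjtop : (⊤ : Subgroup T).map j = alternatingGroup (Fin 6) := by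
      refine le_antisymm ?_ fun x hx => ⟨eT.symm ⟨x, hx⟩, trivial, by simp [j]⟩
      rintro _ ⟨t, -, rfl⟩
      exact (eT t).2
    have hrel : ((H.subgroupOf T).map j).relIndex (alternatingGroup (Fin 6)) = Nat.card Ω := by
      rw [← hjtop, Subgroup.relIndex_map_map_of_injective _ _ hj, Subgroup.relIndex_top_right]
      exact hN
    refine finish ((H.subgroupOf T).map j) (fun t ht => ⟨t, ht, rfl⟩) (avoid_six _ hr (by rw [hrel]; exact hrd) ?_
      (fun p hp hd => hmax p hp (hrel ▸ hd)))
    rintro _ ⟨t, -, rfl⟩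
    exact (eT t).2
  · -- embedding in the symmetric group
    let ψ : G →* MulAut (alternatingGroup (Fin m)) :=
      (MulAut.congr eT).toMonoidHom.comp (MulAut.conjNormal (H := T))
    have hψ : ∀ g t, ψ g (eT t) = eT (MulAut.conjNormal g t) := fun g t => by
      show eT (MulAut.conjNormal g (eT.symm (eT t))) = _
      rw [MulEquiv.symm_apply_apply]
    have hψinj : Function.Injective ψ := by
      rw [injective_iff_map_eq_one]
      intro g hg
      have hmem : g ∈ Subgroup.centralizer (T : Set G) := by
        rw [Subgroup.mem_centralizer_iff]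
        intro t ht
        have h := congrArg (fun x : alternatingGroup (Fin m) => ((eT.symm x : T) : G)) ((hψ g ⟨t, ht⟩).symm.trans
          (DFunLike.congr_fun hg _))
        simp only [MulEquiv.symm_apply_apply, MulAut.conjNormal_apply, MulAut.one_apply] at h
        exact (mul_inv_eq_iff_eq_mul.1 h).symm
      rwa [hTc, Subgroup.mem_bot] at hmem
    have hsurj : Function.Surjective (MulAut.conjNormal (H := alternatingGroup (Fin m))) := fun φ => by
      obtain ⟨o, u, hou⟩ := exists_pair_ne (Fin m)
      exact CfsgLib.AutAlt.exists_conj_of_map (by rw [Fintype.card_fin]; omega) hou φ fun t ht =>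
        CfsgLib.AutAlt.isThreeCycle_map (by rw [Fintype.card_fin]; omega) (by rw [Fintype.card_fin]; exact h6) φ t ht
    let e : Perm (Fin m) ≃* MulAut (alternatingGroup (Fin m)) :=
      MulEquiv.ofBijective _ ⟨CfsgLib.AutAlt.conjNormal_injective hm, hsurj⟩
    let f : G →* Perm (Fin m) := e.symm.toMonoidHom.comp ψ
    have hf : Function.Injective f := e.symm.injective.comp hψinj
    have hfT : ∀ t : T, f t = (eT t : Perm (Fin m)) := fun t => by
      show e.symm (ψ t) = _
      rw [MulEquiv.symm_apply_eq]
      refine MulEquiv.ext fun x => ?_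
      obtain ⟨y, rfl⟩ := eT.surjective x
      rw [hψ]
      apply Subtype.ext
      show _ = ((MulAut.conjNormal (eT t : Perm (Fin m))) (eT y) : Perm (Fin m))
      rw [MulAut.conjNormal_apply, show MulAut.conjNormal (t : G) y = t * y * t⁻¹ from Subtype.ext (by simp)]
      simp
    have hTmap : T.map f = alternatingGroup (Fin m) := by
      ext x
      constructor
      · rintro ⟨t, ht, rfl⟩
        rw [show f t = (eT ⟨t, ht⟩ : Perm (Fin m)) from hfT ⟨t, ht⟩]
        exact (eT _).2
      · intro hx
        exact ⟨(eT.symm ⟨x, hx⟩ : T), (eT.symm _).2, by rw [hfT, MulEquiv.apply_symm_apply]⟩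
    have hrel : (H.map f).relIndex (alternatingGroup (Fin m)) = Nat.card Ω := by
      rw [← hTmap, Subgroup.relIndex_map_map_of_injective _ _ hf, hN]
    refine finish (H.map f) (fun t ht => ⟨t, ht, hfT t⟩) (avoid_of_maximal hm f.range (H.map f) ?_ ?_ ?_ hr
      (by rw [hrel]; exact hrd) fun p hp hd => hmax p hp (hrel ▸ hd))
    · rw [← hTmap]
      exact Subgroup.map_le_range f T
    · exact Subgroup.map_le_range f H
    · intro K hHK hKG
      have hco : IsCoatom H := by
        haveI := hprim
        exact (MulAction.isCoatom_stabilizer_iff_preprimitive G α).2 hprim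
      have hle : H ≤ K.comap f := Subgroup.map_le_iff_le_comap.1 hHK
      rcases eq_or_lt_of_le hle with h | h
      · left
        rw [h, Subgroup.map_comap_eq_self hKG]
      · right
        rw [← Subgroup.map_comap_eq_self hKG, hco.2 _ h, ← MonoidHom.range_eq_map]

end CfsgLib.AltDerange
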