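import Cfsg.Agent.AltDerange.Arith
import Cfsg.Agent.FGSB.Jordan
import Mathlib.GroupTheory.Perm.Cycle.PossibleTypes
import Mathlib.GroupTheory.PGroup
import Mathlib.NumberTheory.Bertrand

/-!
Elements of the largest possible prime order in an alternating group avoiding all conjugates of a point stabiliser.
-/

set_option autoImplicit false
set_option linter.style.haveILetI false

namespace CfsgLib.AltDerange

open Equiv Equiv.Perm MulAction
open scoped Pointwise

/-- An element of order `p` has a conjugate in every subgroup of index prime to `p`. -/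
theorem exists_conj_mem {G : Type*} [Group G] [Finite G] {p : ℕ} [hp : Fact p.Prime] (K : Subgroup G) {g : G}
    (hg : g ^ p = 1) (hK : ¬ p ∣ K.index) : ∃ x : G, x⁻¹ * g * x ∈ K := by
  have hP : IsPGroup p (Subgroup.zpowers g) := fun x => by
    refine ⟨1, Subtype.ext ?_⟩
    obtain ⟨i, hi⟩ := Subgroup.mem_zpowers_iff.1 x.2
    rw [pow_one, SubgroupClass.coe_pow, Subgroup.coe_one, ← hi, ← zpow_natCast, zpow_comm, zpow_natCast, hg, one_zpow]
  have h := hP.card_modEq_card_fixedPoints (G ⧸ K)
  have hne : (fixedPoints (Subgroup.zpowers g) (G ⧸ K)).Nonempty := by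
    by_contra h0
    rw [Set.not_nonempty_iff_eq_empty] at h0
    rw [h0, Nat.card_coe_set_eq, Set.ncard_empty, Nat.modEq_zero_iff_dvd] at h
    exact hK h
  obtain ⟨c, hc⟩ := hne
  obtain ⟨x, rfl⟩ := QuotientGroup.mk_surjective c
  refine ⟨x, ?_⟩
  have h1 : ((g * x : G) : G ⧸ K) = x := hc ⟨g, Subgroup.mem_zpowers g⟩
  rw [eq_comm, QuotientGroup.eq] at h1
  rwa [mul_assoc]

/-- A transitive imprimitive group has no element of prime order greater than half the degree. -/
theorem not_imprimitive {α : Type*} [Finite α] [Nontrivial α] {K : Subgroup (Perm α)} (htr : IsPretransitive K α)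
    (hnp : ¬ IsPreprimitive K α) {g : Perm α} (hg : g ∈ K) {q : ℕ} (hq : q.Prime) (hord : orderOf g = q)
    (hbig : Nat.card α < 2 * q) : False := by
  have : ∃ B : Set α, IsBlock K B ∧ ¬ B.Subsingleton ∧ B ≠ Set.univ := by
    by_contra h
    push Not at h
    exact hnp { isTrivialBlock_of_isBlock := fun {B} hB => by
                  by_cases hs : B.Subsingleton
                  · exact Or.inl hs
                  · exact Or.inr (h B hB (Set.not_subsingleton_iff.1 hs)) }
  obtain ⟨B, hB, hns, hne⟩ := this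
  have hBne : B.Nonempty := (Set.not_subsingleton_iff.1 hns).nonempty
  have hab : B.ncard * (orbit K B).ncard = Nat.card α := hB.ncard_block_mul_ncard_orbit_eq hBne
  have ha2 : 2 ≤ B.ncard := Set.one_lt_ncard_iff_nontrivial.2 (Set.not_subsingleton_iff.1 hns)
  have ha : B.ncard < Nat.card α := by
    rw [← Set.ncard_univ]
    exact Set.ncard_lt_ncard (lt_of_le_of_ne (Set.subset_univ _) hne)
  have hb2 : 2 ≤ (orbit K B).ncard := by
    by_contra h
    have := Finite.one_lt_card (α := α)
    interval_cases (orbit K B).ncard <;> omega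
  have haq : B.ncard < q := by nlinarith
  have hbq : (orbit K B).ncard < q := by nlinarith
  let k : K := ⟨g, hg⟩
  have hk : orderOf k = q := by rw [← Subgroup.orderOf_coe]; exact hord
  have horb : ∀ {X : Type _} [MulAction K X] (x : X) (S : Set X), S.Finite → (∀ i : ℤ, k ^ i • x ∈ S) →
      S.ncard < q → k • x = x := by
    intro X _ x S hS hmem hlt
    have hsub : orbit (Subgroup.zpowers k) x ⊆ S := by
      rintro _ ⟨⟨_, i, rfl⟩, rfl⟩
      exact hmem i
    have hle := (Set.ncard_le_ncard hsub hS).trans_lt hlt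
    have hdvd : (orbit (Subgroup.zpowers k) x).ncard ∣ q := by
      rw [← hk, ← Nat.card_zpowers k, ← MulAction.index_stabilizer]
      exact Subgroup.index_dvd_card _
    rcases hq.eq_one_or_self_of_dvd _ hdvd with h1 | h1
    · obtain ⟨y, hy⟩ := Set.ncard_eq_one.1 h1
      have e1 : x = y := by simpa [hy] using mem_orbit_self (M := Subgroup.zpowers k) x
      have e2 : k • x = y := by
        simpa [hy] using (mem_orbit x (⟨k, Subgroup.mem_zpowers k⟩ : Subgroup.zpowers k))
      rw [e2, e1]
    · omega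
  have h1 : g = 1 := by
    ext x
    obtain ⟨b, hbB⟩ := hBne
    obtain ⟨h, rfl⟩ := htr.exists_smul_eq b x
    have hblock : ∀ i : ℤ, k ^ i • (h • B) = h • B := by
      intro i
      have hstab : k ∈ stabilizer K (h • B) :=
        horb (h • B) (orbit K B) (Set.toFinite _)
          (fun i => by rw [← mul_smul]; exact mem_orbit B _) hbq
      exact Subgroup.zpow_mem _ hstab i
    refine horb (h • b) (h • B) (Set.toFinite _) (fun i => ?_) ?_
    · rw [← hblock i]
      exact Set.smul_mem_smul_set (Set.smul_mem_smul_set hbB)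
    · rwa [Set.ncard_smul_set]
  rw [h1, orderOf_one] at hord
  exact hq.ne_one hord.symm

theorem exists_rep {m : ℕ} {r t : ℕ} (hr : r.Prime) (ht : t ≠ 0) (htm : t * r ≤ m) :
    ∃ σ : Perm (Fin m), σ.cycleType = Multiset.replicate t r ∧ orderOf σ = r ∧
      ((r ≠ 2 ∨ 2 ∣ t) → σ ∈ alternatingGroup (Fin m)) := by
  haveI := Fact.mk hr
  obtain ⟨σ, hσ⟩ := (Equiv.Perm.exists_with_cycleType_iff (Fin m) (m := Multiset.replicate t r)).2 ⟨by
    rw [Multiset.sum_replicate, smul_eq_mul, Fintype.card_fin]; exact htm,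
    fun a ha => by rw [Multiset.eq_of_mem_replicate ha]; exact hr.two_le⟩
  refine ⟨σ, hσ, ?_, fun h => ?_⟩
  · rw [← lcm_cycleType, hσ]
    obtain ⟨u, rfl⟩ := Nat.exists_eq_succ_of_ne_zero ht
    clear hσ htm ht
    induction u with
    | zero => simp
    | succ u ih => rw [Multiset.replicate_succ, Multiset.lcm_cons, ih]; exact Nat.lcm_self r
  · rw [mem_alternatingGroup, sign_of_cycleType, hσ, Multiset.sum_replicate, Multiset.card_replicate, smul_eq_mul]
    refine Even.neg_one_pow ?_
    rcases h with h | h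
    · rw [show t * r + t = t * (r + 1) by ring]
      exact Even.mul_left (Nat.even_add_one.2 (Nat.not_even_iff_odd.2 (hr.odd_of_ne_two h))) _
    · exact (even_iff_two_dvd.2 h).mul_right _ |>.add (even_iff_two_dvd.2 h)

theorem orderOf_conj_eq {G : Type*} [Group G] (σ τ : G) : orderOf (τ * σ * τ⁻¹) = orderOf σ :=
  (MulAut.conj τ).orderOf_eq σ

theorem orderOf_conj_eq' {G : Type*} [Group G] (σ τ : G) : orderOf (τ⁻¹ * σ * τ) = orderOf σ := by
  simpa using orderOf_conj_eq σ τ⁻¹

theorem cycleType_conj_eq {m : ℕ} {σ τ : Perm (Fin m)} : (τ * σ * τ⁻¹).cycleType = σ.cycleType := cycleType_conj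

theorem mod_le_of_invariant {m r : ℕ} (hr : r.Prime) {σ : Perm (Fin m)}
    (hσ : σ.cycleType = Multiset.replicate (m / r) r) (s : Finset (Fin m)) (hs : ∀ x, σ x ∈ s ↔ x ∈ s) :
    s.card % r ≤ m % r := by
  haveI := Fact.mk hr
  have hpow : σ ^ r = 1 := Equiv.Perm.pow_prime_eq_one_iff.2 fun c hc' => by
    rw [hσ] at hc'; exact Multiset.eq_of_mem_replicate hc'
  set τ := σ.subtypePerm hs with hτdef
  have hτ : τ ^ r = 1 := by
    rw [hτdef, Equiv.Perm.subtypePerm_pow]
    ext x; simp [hpow]
  have h1 := Equiv.Perm.card_compl_support_modEq (p := r) (n := 1) (σ := τ) (by rwa [pow_one])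
  rw [Fintype.card_coe] at h1
  have h2 : τ.supportᶜ.card ≤ σ.supportᶜ.card := by
    refine Finset.card_le_card_of_injOn Subtype.val (fun x hx => ?_) (fun _ _ _ _ e => Subtype.ext e)
    rw [Finset.mem_coe, Finset.mem_compl, Equiv.Perm.mem_support, not_not] at hx ⊢
    exact congrArg Subtype.val hx
  rw [Finset.card_compl σ.support, Fintype.card_fin, ← Equiv.Perm.sum_cycleType, hσ,
    Multiset.sum_replicate, smul_eq_mul] at h2
  have h3 : τ.supportᶜ.card % r = s.card % r := h1
  have h4 : m - m / r * r = m % r := by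
    have := Nat.div_add_mod m r; rw [mul_comm] at this; omega
  have h5 := Nat.mod_le τ.supportᶜ.card r
  omega

theorem index_facts {m : ℕ} (hm : 5 ≤ m) (H : Subgroup (Perm (Fin m))) :
    H.relIndex (alternatingGroup (Fin m)) * Nat.card (H ⊓ alternatingGroup (Fin m) : Subgroup (Perm (Fin m))) * 2 =
      m.factorial := by
  haveI : Nontrivial (Fin m) := Fin.nontrivial_iff_two_le.2 (by omega)
  rw [← Subgroup.inf_relIndex_right, ← Subgroup.relIndex_bot_left, mul_comm (Subgroup.relIndex _ _),
    Subgroup.relIndex_mul_relIndex _ _ _ bot_le inf_le_right, Subgroup.relIndex_bot_left, mul_comm,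
    Nat.card_eq_fintype_card, two_mul_card_alternatingGroup, Fintype.card_perm, Fintype.card_fin]

theorem prime_le {m : ℕ} (hm : 5 ≤ m) (H : Subgroup (Perm (Fin m))) {r : ℕ} (hr : r.Prime)
    (hd : r ∣ H.relIndex (alternatingGroup (Fin m))) : r ≤ m := by
  have h := index_facts hm H
  exact (hr.dvd_factorial).1 (h ▸ dvd_mul_of_dvd_left (dvd_mul_of_dvd_left hd _) _)

theorem large_prime_not_dvd {m : ℕ} (hm : 5 ≤ m) (H : Subgroup (Perm (Fin m))) {r : ℕ} (hr : r.Prime)
    (hd : r ∣ H.relIndex (alternatingGroup (Fin m))) (hbig : m < 2 * r) {g : Perm (Fin m)}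
    (hg : g ∈ H) (hgA : g ∈ alternatingGroup (Fin m)) : orderOf g ≠ r := by
  intro ho
  have h := index_facts hm H
  have hc : r ∣ Nat.card (H ⊓ alternatingGroup (Fin m) : Subgroup (Perm (Fin m))) := by
    rw [← ho, show orderOf g = orderOf (⟨g, hg, hgA⟩ : (H ⊓ alternatingGroup (Fin m) : Subgroup (Perm (Fin m)))) from
      (Subgroup.orderOf_coe (⟨g, hg, hgA⟩ : (H ⊓ alternatingGroup (Fin m) : Subgroup (Perm (Fin m)))))]
    exact orderOf_dvd_natCard _
  have h2 : r ^ 2 ∣ m.factorial := h ▸ dvd_mul_of_dvd_left (pow_two r ▸ mul_dvd_mul hd hc) _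
  have hm2 : m < r ^ 2 := hbig.trans_le (by rw [pow_two]; exact Nat.mul_le_mul_right _ hr.two_le)
  rw [Nat.Prime.pow_dvd_factorial_iff hr (Nat.log_lt_of_lt_pow (by omega) hm2)] at h2
  rw [show Finset.Ico 1 2 = {1} by rfl, Finset.sum_singleton, pow_one, Nat.le_div_iff_mul_le hr.pos] at h2
  omega

/-- A primitive group with index not divisible by `3` in the alternating group contains it. -/
theorem three_dvd_of_primitive {m : ℕ} (hm : 5 ≤ m) (H : Subgroup (Perm (Fin m))) (hprim : IsPreprimitive H (Fin m))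
    (hA : ¬ alternatingGroup (Fin m) ≤ H) : 3 ∣ H.relIndex (alternatingGroup (Fin m)) := by
  haveI : Fact (Nat.Prime 3) := ⟨Nat.prime_three⟩
  by_contra h3
  obtain ⟨σ, hσ, ho, hσA⟩ := exists_rep (m := m) Nat.prime_three one_ne_zero (by omega)
  obtain ⟨x, hx⟩ := exists_conj_mem (H.subgroupOf (alternatingGroup (Fin m)))
    (g := ⟨σ, hσA (Or.inl (by norm_num))⟩) (p := 3) (Subtype.ext (by
      rw [SubgroupClass.coe_pow]; exact (congrArg (σ ^ ·) ho.symm).trans (pow_orderOf_eq_one σ))) h3
  refine hA (Equiv.Perm.alternatingGroup_le_of_isPreprimitive_of_isThreeCycle_mem hprim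
    (g := (x : Perm (Fin m))⁻¹ * σ * x) ?_ hx)
  show ((x : Perm (Fin m))⁻¹ * σ * x).cycleType = {3}
  have hc := cycleType_conj_eq (σ := σ) (τ := (x : Perm (Fin m))⁻¹)
  rw [inv_inv] at hc
  rw [hc, hσ, Multiset.replicate_one]

theorem relIndex_stab {m : ℕ} (hm : 5 ≤ m) (s : Finset (Fin m)) (h1 : 1 ≤ s.card) (h2 : 2 * s.card ≤ m) :
    (stabilizer (Perm (Fin m)) s).relIndex (alternatingGroup (Fin m)) = m.choose s.card := by
  classical
  have hst : (stabilizer (Perm (Fin m)) s).subgroupOf (alternatingGroup (Fin m)) =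
      stabilizer (alternatingGroup (Fin m)) s := by
    ext x; rfl
  rw [Subgroup.relIndex, hst, MulAction.index_stabilizer]
  have : orbit (alternatingGroup (Fin m)) s = ↑(Finset.powersetCard s.card (Finset.univ : Finset (Fin m))) := by
    ext t
    simp only [Finset.mem_coe, Finset.mem_powersetCard, Finset.subset_univ, true_and]
    constructor
    · rintro ⟨g, rfl⟩
      exact Finset.card_smul_finset g s
    · intro ht
      let e₁ := (Finset.equivOfCardEq ht.symm : ↥s ≃ ↥t)
      let π : Perm (Fin m) := e₁.extendSubtype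
      have hπ : π • s = t := by
        refine Finset.eq_of_subset_of_card_le (fun y hy => ?_) (by rw [Finset.card_smul_finset, ht])
        obtain ⟨x, hx, rfl⟩ := Finset.mem_smul_finset.1 hy
        exact Equiv.extendSubtype_mem e₁ x hx
      by_cases hπA : π ∈ alternatingGroup (Fin m)
      · exact ⟨⟨π, hπA⟩, hπ⟩
      obtain ⟨a, b, ha, hb, hne⟩ := (Finset.one_lt_card_iff (s := sᶜ)).1 (by
        rw [Finset.card_compl, Fintype.card_fin]; omega)
      have hs : swap a b • s = s := by
        refine Finset.eq_of_subset_of_card_le (fun y hy => ?_) (by rw [Finset.card_smul_finset])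
        obtain ⟨x, hx, rfl⟩ := Finset.mem_smul_finset.1 hy
        rw [Perm.smul_def, swap_apply_of_ne_of_ne (by rintro rfl; exact Finset.mem_compl.1 ha hx)
          (by rintro rfl; exact Finset.mem_compl.1 hb hx)]
        exact hx
      refine ⟨⟨π * swap a b, ?_⟩, by show (π * swap a b) • s = t; rw [mul_smul, hs, hπ]⟩
      rw [mem_alternatingGroup] at hπA ⊢
      rw [map_mul, sign_swap hne, (Int.units_eq_one_or (sign π)).resolve_left hπA]
      rfl
  rw [this, Set.ncard_coe_finset, Finset.card_powersetCard, Finset.card_univ, Fintype.card_fin]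

/-- The generic case. -/
theorem avoid_of_maximal {m : ℕ} (hm : 5 ≤ m) (G H : Subgroup (Perm (Fin m))) (hAG : alternatingGroup (Fin m) ≤ G)
    (hHG : H ≤ G) (hmax : ∀ K, H ≤ K → K ≤ G → K = H ∨ K = G) {r : ℕ} (hr : r.Prime)
    (hd : r ∣ H.relIndex (alternatingGroup (Fin m)))
    (hlargest : ∀ p, p.Prime → p ∣ H.relIndex (alternatingGroup (Fin m)) → p ≤ r) :
    ∃ σ ∈ alternatingGroup (Fin m), orderOf σ = r ∧ ∀ τ ∈ alternatingGroup (Fin m), τ * σ * τ⁻¹ ∉ H := by
  classical
  haveI : Nontrivial (Fin m) := Fin.nontrivial_iff_two_le.2 (by omega)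
  have hA : ¬ alternatingGroup (Fin m) ≤ H := fun h => by
    rw [Subgroup.relIndex_eq_one.2 h] at hd
    exact hr.ne_one (Nat.dvd_one.1 hd)
  have hrm := prime_le hm H hr hd
  by_cases htr : IsPretransitive H (Fin m)
  · by_cases hprim : IsPreprimitive H (Fin m)
    · have hr2 : r ≠ 2 := by
        have := hlargest 3 Nat.prime_three (three_dvd_of_primitive hm H hprim hA)
        omega
      obtain ⟨σ, hσ, ho, hσA⟩ := exists_rep (m := m) hr one_ne_zero (by omega)
      refine ⟨σ, hσA (Or.inl hr2), ho, fun τ hτ hmem => ?_⟩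
      by_cases hsmall : r + 3 ≤ m
      · have hct : (τ * σ * τ⁻¹).cycleType = {r} := by rw [cycleType_conj_eq, hσ, Multiset.replicate_one]
        have hcyc : (τ * σ * τ⁻¹).IsCycle := card_cycleType_eq_one.1 (by rw [hct]; rfl)
        have hsupp : (τ * σ * τ⁻¹).support.card = r := by rw [← sum_cycleType, hct, Multiset.sum_singleton]
        exact hA (CfsgLib.Jordan.alternatingGroup_le_of_isCycle hprim hmem hcyc (hsupp ▸ hr)
          (by rw [hsupp, Fintype.card_fin]; exact hsmall))
      · refine large_prime_not_dvd hm H hr hd (by have := hr.two_le; omega) hmem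
          (mul_mem (mul_mem hτ (hσA (Or.inl hr2))) (inv_mem hτ)) ?_
        rw [orderOf_conj_eq, ho]
    · have hrbig : m < 2 * r := by
        obtain ⟨p, hp, hp1, hp2⟩ := Nat.exists_prime_lt_and_le_two_mul (m / 2) (by omega)
        haveI := Fact.mk hp
        suffices p ∣ H.relIndex (alternatingGroup (Fin m)) by have := hlargest p hp this; omega
        by_contra hpd
        obtain ⟨σ, hσ, ho, hσA⟩ := exists_rep (m := m) hp one_ne_zero (by omega)
        obtain ⟨x, hx⟩ := exists_conj_mem (H.subgroupOf (alternatingGroup (Fin m)))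
          (g := ⟨σ, hσA (Or.inl (by omega))⟩) (p := p) (Subtype.ext (by
            rw [SubgroupClass.coe_pow]; exact (congrArg (σ ^ ·) ho.symm).trans (pow_orderOf_eq_one σ))) hpd
        refine not_imprimitive htr hprim (g := (x : Perm (Fin m))⁻¹ * σ * x) hx hp ?_
          (by rw [Nat.card_fin]; omega)
        rw [orderOf_conj_eq', ho]
      obtain ⟨σ, hσ, ho, hσA⟩ := exists_rep (m := m) hr one_ne_zero (by omega)
      refine ⟨σ, hσA (Or.inl (by omega)), ho, fun τ _ hmem => ?_⟩
      refine not_imprimitive htr hprim hmem hr ?_ (by rw [Nat.card_fin]; exact hrbig)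
      rw [orderOf_conj_eq, ho]
  · -- intransitive
    obtain ⟨s, hs1, hs2, hsH⟩ : ∃ s : Finset (Fin m), 1 ≤ s.card ∧ 2 * s.card ≤ m ∧
        ∀ h ∈ H, h • s = s := by
      obtain ⟨a, b, hab⟩ : ∃ a b : Fin m, ∀ h : H, h • a ≠ b := by
        by_contra hh
        push Not at hh
        exact htr ⟨hh⟩
      let O : Finset (Fin m) := Finset.univ.filter fun x => x ∈ orbit H a
      have hO : ∀ h ∈ H, h • O = O := fun h hh => by
        refine Finset.eq_of_subset_of_card_le (fun y hy => ?_) (by rw [Finset.card_smul_finset])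
        obtain ⟨x, hx, rfl⟩ := Finset.mem_smul_finset.1 hy
        simp only [O, Finset.mem_filter, Finset.mem_univ, true_and] at hx ⊢
        exact mem_orbit_of_mem_orbit (⟨h, hh⟩ : H) hx
      have haO : a ∈ O := by simp [O]
      have hbO : b ∉ O := by simpa [O, mem_orbit_iff] using hab
      have hO0 : 0 < O.card := Finset.card_pos.2 ⟨a, haO⟩
      have hOm : O.card < m := by
        simpa using Finset.card_lt_univ_of_notMem hbO
      by_cases hhalf : 2 * O.card ≤ m
      · exact ⟨O, hO0, hhalf, hO⟩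
      · refine ⟨Oᶜ, by rw [Finset.card_compl, Fintype.card_fin]; omega,
          by rw [Finset.card_compl, Fintype.card_fin]; omega, fun h hh => ?_⟩
        refine Finset.eq_of_subset_of_card_le (fun y hy => ?_) (by rw [Finset.card_smul_finset])
        obtain ⟨x, hx, rfl⟩ := Finset.mem_smul_finset.1 hy
        rw [Finset.mem_compl] at hx ⊢
        intro hxO
        rw [← hO h hh, Finset.smul_mem_smul_finset_iff] at hxO
        exact hx hxO
    let S : Subgroup (Perm (Fin m)) := stabilizer (Perm (Fin m)) s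
    have hrel := relIndex_stab hm s hs1 hs2
    have hgt : 1 < m.choose s.card := by
      calc 1 < m := by omega
        _ = m.choose 1 := (Nat.choose_one_right m).symm
        _ ≤ m.choose s.card := by
          clear hsH hrel htr
          generalize s.card = k at hs1 hs2 ⊢
          induction k, hs1 using Nat.le_induction with
          | base => exact le_rfl
          | succ j hj ih => exact (ih (by omega)).trans (Nat.choose_le_succ_of_lt_half_left (by omega))
    have hK : S ⊓ G = H := by
      rcases hmax (S ⊓ G) (le_inf (fun h hh => hsH h hh) hHG) inf_le_right with h | h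
      · exact h
      · exfalso
        have : alternatingGroup (Fin m) ≤ S := hAG.trans (inf_eq_right.1 h)
        rw [Subgroup.relIndex_eq_one.2 this] at hrel
        omega
    have hHrel : H.relIndex (alternatingGroup (Fin m)) = m.choose s.card := by
      rw [← hK, ← hrel, ← Subgroup.inf_relIndex_right, inf_assoc, inf_eq_right.2 hAG, Subgroup.inf_relIndex_right]
    rw [hHrel] at hd hlargest
    have hmod := mod_lt_of_max hs1 hs2 hr hd hlargest
    have hrm' : m / r ≠ 0 := by
      intro h
      rw [Nat.div_eq_zero_iff] at h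
      have := hr.two_le
      omega
    obtain ⟨σ, hσ, ho, hσA⟩ := exists_rep (m := m) hr hrm' (Nat.div_mul_le_self m r)
    refine ⟨σ, hσA ?_, ho, fun τ _ hmem => ?_⟩
    · rcases eq_or_ne r 2 with rfl | h
      · right
        obtain ⟨-, h4⟩ := choose_two_pow hs1 hs2 hm hlargest
        omega
      · exact Or.inl h
    · have hinv : (τ * σ * τ⁻¹) • s = s := hsH _ hmem
      refine absurd (mod_le_of_invariant hr (σ := τ * σ * τ⁻¹) (by rw [cycleType_conj_eq, hσ]) s fun x => ?_)
        (not_le.2 hmod)
      conv_lhs => rw [← hinv]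
      exact Finset.smul_mem_smul_finset_iff _

/-- Degree six. -/
theorem avoid_six (M : Subgroup (Perm (Fin 6))) {r : ℕ} (hr : r.Prime)
    (hd : r ∣ M.relIndex (alternatingGroup (Fin 6))) (hMA : M ≤ alternatingGroup (Fin 6))
    (hlargest : ∀ p, p.Prime → p ∣ M.relIndex (alternatingGroup (Fin 6)) → p ≤ r) :
    ∃ σ ∈ alternatingGroup (Fin 6), orderOf σ = r ∧ ∀ τ ∈ alternatingGroup (Fin 6), τ * σ * τ⁻¹ ∉ M := by
  classical
  have hA : ¬ alternatingGroup (Fin 6) ≤ M := fun h => by
    rw [Subgroup.relIndex_eq_one.2 h] at hd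
    exact hr.ne_one (Nat.dvd_one.1 hd)
  have hrm := prime_le (by norm_num) M hr hd
  by_cases h5 : 5 ∣ M.relIndex (alternatingGroup (Fin 6))
  · have := hlargest 5 Nat.prime_five h5
    obtain rfl : r = 5 := by
      interval_cases r
      · rfl
      · exact absurd hr (by norm_num)
    obtain ⟨σ, -, ho, hσA⟩ := exists_rep (m := 6) hr one_ne_zero (by norm_num)
    refine ⟨σ, hσA (Or.inl (by norm_num)), ho, fun τ hτ hmem =>
      large_prime_not_dvd (by norm_num) M hr hd (by norm_num) hmem (hMA hmem) ?_⟩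
    rw [orderOf_conj_eq, ho]
  obtain ⟨f, hf, hof⟩ : ∃ f ∈ M, orderOf f = 5 ∧ f.support.card = 5 := by
    haveI : Fact (Nat.Prime 5) := ⟨Nat.prime_five⟩
    obtain ⟨σ, hσ, ho, hσA⟩ := exists_rep (m := 6) Nat.prime_five one_ne_zero (by norm_num)
    obtain ⟨x, hx⟩ := exists_conj_mem (M.subgroupOf (alternatingGroup (Fin 6)))
      (g := ⟨σ, hσA (Or.inl (by norm_num))⟩) (p := 5) (Subtype.ext (by
        rw [SubgroupClass.coe_pow]; exact (congrArg (σ ^ ·) ho.symm).trans (pow_orderOf_eq_one σ))) h5
    refine ⟨(x : Perm (Fin 6))⁻¹ * σ * x, hx, ?_, ?_⟩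
    · rw [orderOf_conj_eq', ho]
    · have hc := cycleType_conj_eq (σ := σ) (τ := (x : Perm (Fin 6))⁻¹)
      rw [inv_inv] at hc
      rw [← sum_cycleType, hc, hσ]
      rfl
  by_cases htr : IsPretransitive M (Fin 6)
  · have hprim : IsPreprimitive M (Fin 6) := by
      by_contra hnp
      exact not_imprimitive htr hnp hf Nat.prime_five hof.1 (by rw [Nat.card_fin]; norm_num)
    have := hlargest 3 Nat.prime_three (three_dvd_of_primitive (by norm_num) M hprim hA)
    obtain rfl : r = 3 := by
      interval_cases r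
      · rfl
      · exact absurd hr (by norm_num)
      · exact absurd hd h5
      · exact absurd hr (by norm_num)
    obtain ⟨σ, hσ, ho, hσA⟩ := exists_rep (m := 6) hr one_ne_zero (by norm_num)
    refine ⟨σ, hσA (Or.inl (by norm_num)), ho, fun τ hτ hmem => hA ?_⟩
    exact Equiv.Perm.alternatingGroup_le_of_isPreprimitive_of_isThreeCycle_mem hprim
      (show (τ * σ * τ⁻¹).cycleType = {3} by rw [cycleType_conj_eq, hσ, Multiset.replicate_one]) hmem
  · obtain ⟨c, hc⟩ : ∃ c : Fin 6, ∀ g ∈ M, g c = c := by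
      obtain ⟨a, b, hab⟩ : ∃ a b : Fin 6, ∀ h : M, h • a ≠ b := by
        by_contra hh
        push Not at hh
        exact htr ⟨hh⟩
      -- the orbit through the 5-cycle
      obtain ⟨c, hc⟩ : ∃ c, f.supportᶜ = {c} := by
        rw [← Finset.card_eq_one, Finset.card_compl, hof.2, Fintype.card_fin]
      have hcyc : f.IsCycle := isCycle_of_prime_order' (hof.1.symm ▸ Nat.prime_five)
        (by rw [Fintype.card_fin, hof.1]; norm_num)
      refine ⟨c, fun g hg => ?_⟩
      by_contra hne
      have hgc : g c ∈ f.support := by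
        by_contra h
        have : g c ∈ f.supportᶜ := Finset.mem_compl.2 h
        rw [hc, Finset.mem_singleton] at this
        exact hne this
      have hall : ∀ x, x ∈ orbit M c := by
        intro x
        by_cases hx : x ∈ f.support
        · obtain ⟨i, hi⟩ := hcyc.exists_zpow_eq (mem_support.1 hgc) (mem_support.1 hx)
          exact ⟨⟨f ^ i * g, mul_mem (M.zpow_mem hf i) hg⟩, hi⟩
        · have : x ∈ f.supportᶜ := Finset.mem_compl.2 hx
          rw [hc, Finset.mem_singleton] at this
          rw [this]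
          exact mem_orbit_self c
      obtain ⟨h₁, e₁⟩ := hall a
      obtain ⟨h₂, e₂⟩ := hall b
      exact hab (h₂ * h₁⁻¹) (by rw [← e₁, ← e₂, mul_smul, inv_smul_smul])
    have h6 : 6 ∣ M.relIndex (alternatingGroup (Fin 6)) := by
      have hle : M ≤ stabilizer (Perm (Fin 6)) c ⊓ alternatingGroup (Fin 6) := le_inf (fun g hg => hc g hg) hMA
      rw [← Subgroup.relIndex_mul_relIndex _ _ _ hle inf_le_right, Subgroup.inf_relIndex_right]
      refine dvd_mul_of_dvd_right ?_ _
      haveI : IsPretransitive (alternatingGroup (Fin 6)) (Fin 6) :=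
        alternatingGroup.isPretransitive_of_three_le_card (Fin 6) (by rw [Nat.card_fin]; norm_num)
      have h := MulAction.index_stabilizer_of_transitive (alternatingGroup (Fin 6)) c
      rw [Nat.card_fin] at h
      exact ((show (stabilizer (Perm (Fin 6)) c).relIndex (alternatingGroup (Fin 6)) = 6 from h)).symm.dvd
    have := hlargest 3 Nat.prime_three (dvd_trans (by norm_num) h6)
    obtain rfl : r = 3 := by
      interval_cases r
      · rfl
      · exact absurd hr (by norm_num)
      · exact absurd hd h5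
      · exact absurd hr (by norm_num)
    obtain ⟨σ, hσ, ho, hσA⟩ := exists_rep (m := 6) hr two_ne_zero (by norm_num)
    refine ⟨σ, hσA (Or.inl (by norm_num)), ho, fun τ hτ hmem => ?_⟩
    have h1 : c ∉ (τ * σ * τ⁻¹).support := fun h => mem_support.1 h (hc _ hmem)
    have h2 := Finset.card_lt_univ_of_notMem h1
    rw [← sum_cycleType, cycleType_conj_eq, hσ, Multiset.sum_replicate, Fintype.card_fin] at h2
    simp at h2

end CfsgLib.AltDerange
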